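import Mathlib

/-!
# The conormal sequence of `A → B → C` with `A → C` surjective
-/

open TensorProduct KaehlerDifferential

universe u

namespace Groth.Agent.ConormalAux

variable (A B C : Type u) [CommRing A] [CommRing B] [CommRing C] [Algebra A B] [Algebra B C] [Algebra A C]
  [IsScalarTower A B C]

theorem kill (K : Submodule B (RingHom.ker (algebraMap B C)).Cotangent) (c : B)
    (hc : c ∈ RingHom.ker (algebraMap B C)) (m : (RingHom.ker (algebraMap B C)).Cotangent ⧸ K) : c • m = 0 := by
  obtain ⟨m, rfl⟩ := K.mkQ_surjective m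
  obtain ⟨y, rfl⟩ := Ideal.toCotangent_surjective _ m
  rw [← map_smul, ← map_smul, show Ideal.toCotangent _ (c • y) = 0 from
    (Ideal.toCotangent_eq_zero _ _).2 (by rw [pow_two]; exact Ideal.mul_mem_mul hc y.2), map_zero]

theorem exact_mapCotangent_kct (hAC : Function.Surjective (algebraMap A C))
    (h : RingHom.ker (algebraMap A C) ≤ (RingHom.ker (algebraMap B C)).comap (Algebra.ofId A B)) :
    Function.Exact
      (Ideal.mapCotangent (RingHom.ker (algebraMap A C)) (RingHom.ker (algebraMap B C)) (Algebra.ofId A B) h)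
      (KaehlerDifferential.kerCotangentToTensor A B C) := by
  set I := RingHom.ker (algebraMap A C) with hI
  set J := RingHom.ker (algebraMap B C) with hJ
  intro z
  obtain ⟨⟨x, hx⟩, rfl⟩ := J.toCotangent_surjective z
  constructor
  · intro hz
    rw [kerCotangentToTensor_toCotangent] at hz
    -- the quotient of the cotangent module by the image of `I`
    let K : Submodule B J.Cotangent :=
      Submodule.span B (Set.range (Ideal.mapCotangent I J (Algebra.ofId A B) h))
    have hKA : ∀ m ∈ K, m ∈ Set.range (Ideal.mapCotangent I J (Algebra.ofId A B) h) := fun m hm => by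
      induction hm using Submodule.span_induction with
      | mem m hm => exact hm
      | zero => exact ⟨0, map_zero _⟩
      | add m m' _ _ ha hb => obtain ⟨a, rfl⟩ := ha; obtain ⟨b, rfl⟩ := hb; exact ⟨a + b, map_add _ _ _⟩
      | smul b m _ hm =>
        obtain ⟨a, rfl⟩ := hm
        obtain ⟨c, hc⟩ := hAC (algebraMap B C b)
        obtain ⟨y, hy⟩ := J.toCotangent_surjective (Ideal.mapCotangent I J (Algebra.ofId A B) h a)
        refine ⟨c • a, ?_⟩
        rw [map_smul, ← hy, ← algebraMap_smul B c (J.toCotangent y), ← sub_eq_zero, ← sub_smul, ← map_smul,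
          Ideal.toCotangent_eq_zero, pow_two]
        refine Ideal.mul_mem_mul ?_ y.2
        rw [hJ, RingHom.mem_ker, map_sub, ← IsScalarTower.algebraMap_apply, hc, sub_self]
    choose σ hσ using hAC
    have hmem : ∀ b, b - algebraMap A B (σ (algebraMap B C b)) ∈ J := fun b => by
      rw [hJ, RingHom.mem_ker, map_sub, ← IsScalarTower.algebraMap_apply, hσ, sub_self]
    let D₀ : B → J.Cotangent ⧸ K := fun b => K.mkQ (J.toCotangent ⟨_, hmem b⟩)
    have hD₀ : ∀ b a (hb : b - algebraMap A B a ∈ J), D₀ b = K.mkQ (J.toCotangent ⟨_, hb⟩) := fun b a hb => by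
      rw [← sub_eq_zero]
      show K.mkQ _ - K.mkQ _ = 0
      rw [← map_sub, ← map_sub, Submodule.mkQ_apply, Submodule.Quotient.mk_eq_zero]
      have hd : a - σ (algebraMap B C b) ∈ I := by
        rw [hJ, RingHom.mem_ker, map_sub, ← IsScalarTower.algebraMap_apply, sub_eq_zero] at hb
        rw [hI, RingHom.mem_ker, map_sub, hσ, ← hb, sub_self]
      refine Submodule.subset_span ⟨I.toCotangent ⟨_, hd⟩, ?_⟩
      rw [Ideal.mapCotangent_toCotangent]
      congr 1
      refine Subtype.ext ?_
      show algebraMap A B _ = b - _ - (b - _)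
      rw [map_sub]
      ring
    have hadd : ∀ b b', D₀ (b + b') = D₀ b + D₀ b' := fun b b' => by
      rw [hD₀ (b + b') (σ (algebraMap B C b) + σ (algebraMap B C b'))
        (by rw [map_add, add_sub_add_comm]; exact add_mem (hmem b) (hmem b'))]
      show _ = K.mkQ _ + K.mkQ _
      rw [← map_add K.mkQ, ← map_add J.toCotangent]
      refine congrArg K.mkQ (J.toCotangent_eq.2 ?_)
      convert! zero_mem (J ^ 2) using 1
      simp only [map_add, Submodule.coe_add]
      ring
    have halg : ∀ a, D₀ (algebraMap A B a) = 0 := fun a => by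
      rw [hD₀ _ a (by rw [sub_self]; exact zero_mem _)]
      simp only [sub_self]
      exact (congrArg K.mkQ (map_zero J.toCotangent)).trans (map_zero _)
    have hmul : ∀ b b', D₀ (b * b') = b • D₀ b' + b' • D₀ b := fun b b' => by
      have hm : b * b' - algebraMap A B (σ (algebraMap B C b) * σ (algebraMap B C b')) ∈ J := by
        rw [hJ, RingHom.mem_ker, map_sub, ← IsScalarTower.algebraMap_apply, map_mul, map_mul, hσ, hσ, sub_self]
      rw [hD₀ _ _ hm]
      show _ = b • K.mkQ _ + b' • K.mkQ _
      rw [← map_smul K.mkQ b, ← map_smul K.mkQ b', ← map_add, ← map_smul J.toCotangent b, ← map_smul J.toCotangent b', ← map_add]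
      congr 1
      rw [Ideal.toCotangent_eq]
      show b * b' - algebraMap A B _ - (b * (b' - _) + b' * (b - _)) ∈ J ^ 2
      have := Ideal.mul_mem_mul (hmem b) (hmem b')
      rw [← pow_two] at this
      rw [map_mul]
      convert! Submodule.neg_mem _ this using 1
      ring
    let Dl : B →ₗ[A] J.Cotangent ⧸ K :=
      { toFun := D₀, map_add' := hadd
        map_smul' := fun a b => by
          simp only [Algebra.smul_def, hmul, halg, smul_zero, add_zero, RingHom.id_apply]
          exact algebraMap_smul B a (D₀ b) }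
    let D : Derivation A B (J.Cotangent ⧸ K) := Derivation.mk' Dl hmul
    -- `C` acts through the surjection from `A`
    let L : C ⊗[B] Ω[B⁄A] →ₗ[B] J.Cotangent ⧸ K := TensorProduct.lift
      (LinearMap.mk₂ B (fun c w => algebraMap A B (σ c) • D.liftKaehlerDifferential w)
        (fun c c' w => by
          rw [← add_smul, ← sub_eq_zero, ← sub_smul]
          refine kill B C K _ ?_ _
          rw [RingHom.mem_ker, map_sub, map_add]; simp only [← IsScalarTower.algebraMap_apply, hσ, sub_self])
        (fun b c w => by
          rw [smul_smul, ← sub_eq_zero, ← sub_smul]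
          refine kill B C K _ ?_ _
          rw [RingHom.mem_ker, map_sub, map_mul]; simp only [← IsScalarTower.algebraMap_apply, hσ,
            Algebra.smul_def, sub_self])
        (fun c w w' => by rw [map_add, smul_add])
        (fun b c w => by rw [map_smul, smul_comm]))
    have hL := congrArg L hz
    rw [map_zero] at hL
    simp only [L, TensorProduct.lift.tmul, LinearMap.mk₂_apply, Derivation.liftKaehlerDifferential_comp_D] at hL
    have h1 : algebraMap A B (σ (1 : C)) • D x = D x := by
      conv_rhs => rw [← one_smul B (D x)]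
      rw [← sub_eq_zero, ← sub_smul]
      refine kill B C K _ ?_ _
      rw [RingHom.mem_ker, map_sub, map_one, ← IsScalarTower.algebraMap_apply, hσ, sub_self]
    rw [h1] at hL
    have hL' : D₀ x = 0 := hL
    rw [hD₀ x 0 (by rw [map_zero, sub_zero]; exact hx)] at hL'
    simp only [map_zero, sub_zero, Submodule.mkQ_apply, Submodule.Quotient.mk_eq_zero] at hL'
    exact hKA _ hL'
  · rintro ⟨a, ha⟩
    obtain ⟨a, rfl⟩ := I.toCotangent_surjective a
    rw [← ha, Ideal.mapCotangent_toCotangent, kerCotangentToTensor_toCotangent]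
    simp

theorem kct_surjective (hAC : Function.Surjective (algebraMap A C)) :
    Function.Surjective (KaehlerDifferential.kerCotangentToTensor A B C) := fun y => by
  have hΩ : Subsingleton Ω[C⁄A] := KaehlerDifferential.subsingleton_of_surjective A C hAC
  have hBC : Function.Surjective (algebraMap B C) := by
    intro c; obtain ⟨a, rfl⟩ := hAC c
    exact ⟨algebraMap A B a, (IsScalarTower.algebraMap_apply A B C a).symm⟩
  exact (KaehlerDifferential.exact_kerCotangentToTensor_mapBaseChange A B C hBC y).1 (Subsingleton.elim _ _)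

theorem exists_retraction [Algebra.FormallySmooth A B] (hAC : Function.Surjective (algebraMap A C))
    (h : RingHom.ker (algebraMap A C) ≤ (RingHom.ker (algebraMap B C)).comap (Algebra.ofId A B)) :
    ∃ r : (RingHom.ker (algebraMap B C)).Cotangent →ₗ[A] (RingHom.ker (algebraMap A C)).Cotangent,
      r ∘ₗ Ideal.mapCotangent (RingHom.ker (algebraMap A C)) (RingHom.ker (algebraMap B C))
        (Algebra.ofId A B) h = LinearMap.id := by
  set I := RingHom.ker (algebraMap A C) with hI
  set J := RingHom.ker (algebraMap B C) with hJ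
  let q : (A ⧸ I ^ 2) →ₐ[A] C :=
    Ideal.Quotient.liftₐ (I ^ 2) (Algebra.ofId A C) fun a ha => Ideal.pow_le_self two_ne_zero ha
  have hq : Function.Surjective q := Function.Surjective.of_comp (g := Ideal.Quotient.mk _) hAC
  have hqker : RingHom.ker q.toRingHom = I.cotangentIdeal := AlgHom.ker_kerSquareLift (Algebra.ofId A C)
  have hn : IsNilpotent (RingHom.ker q.toRingHom) := ⟨2, by rw [hqker]; exact Ideal.cotangentIdeal_square _⟩
  let g := Algebra.FormallySmooth.liftOfSurjective (IsScalarTower.toAlgHom A B C) q hq hn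
  have hg : ∀ x ∈ J, g x ∈ I.cotangentIdeal := fun x hx => by
    rw [← hqker, RingHom.mem_ker]
    show q (g x) = 0
    rw [Algebra.FormallySmooth.liftOfSurjective_apply]
    exact hx
  let gJ : J.restrictScalars A →ₗ[A] I.cotangentIdeal.restrictScalars A :=
    g.toLinearMap.restrict (p := J.restrictScalars A) (q := I.cotangentIdeal.restrictScalars A) hg
  let r₀ : J.restrictScalars A →ₗ[A] I.Cotangent := I.cotangentEquivIdeal.symm.toLinearMap ∘ₗ gJ
  have hker : ∀ x : J, x ∈ LinearMap.ker J.toCotangent → r₀ x = 0 := fun x hx => by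
    rw [LinearMap.mem_ker, Ideal.toCotangent_eq_zero, pow_two] at hx
    have h1 : g x = 0 := by
      have h2 : J.map g.toRingHom ≤ I.cotangentIdeal := Ideal.map_le_iff_le_comap.2 hg
      have h3 := (Ideal.map_mul g.toRingHom J J).trans_le (Ideal.mul_mono h2 h2) (Ideal.mem_map_of_mem g.toRingHom hx)
      rw [← pow_two, Ideal.cotangentIdeal_square] at h3
      exact h3
    show I.cotangentEquivIdeal.symm (gJ x) = 0
    exact (congrArg I.cotangentEquivIdeal.symm (show gJ x = (0 : I.cotangentIdeal) from Subtype.ext h1)).trans (map_zero _)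
  refine ⟨Submodule.liftQ ((J • ⊤ : Submodule B J).restrictScalars A) r₀ (fun x hx => hker x ?_), ?_⟩
  · exact (Submodule.Quotient.mk_eq_zero _).2 hx
  · apply LinearMap.ext
    intro z
    obtain ⟨⟨a, ha⟩, rfl⟩ := I.toCotangent_surjective z
    show I.cotangentEquivIdeal.symm (gJ ⟨algebraMap A B a, h ha⟩) = I.toCotangent ⟨a, ha⟩
    rw [← Ideal.cotangentEquivIdeal_symm_apply _ a ha]
    congr 1
    exact Subtype.ext (g.commutes a)

end Groth.Agent.ConormalAux
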